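import Groth.Agent.Lib.H84.ValueApprox
import Mathlib.Algebra.Category.ModuleCat.Ext.HasExt
import Mathlib.Algebra.Category.ModuleCat.Projective
import Mathlib.Algebra.Homology.ShortComplex.ModuleCat
import Mathlib.Algebra.Homology.DerivedCategory.Ext.ExactSequences
import Mathlib.CategoryTheory.Abelian.Injective.Dimension

/-!
# Value sets of a canonical ideal of a unibranch curve singularity
-/

set_option autoImplicit false
set_option linter.unusedSectionVars false

noncomputable section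

open CategoryTheory

namespace Groth.Agent.Lib.CanVal62

universe u

variable {k : Type u} [Field k] {A : Subalgebra k (PowerSeries k)}

/-- Series divisible by `X ^ n`. -/
def tR (A : Subalgebra k (PowerSeries k)) (n : ℕ) : Submodule ↥A (PowerSeries k) where
  carrier := {f | (PowerSeries.X : PowerSeries k) ^ n ∣ f}
  zero_mem' := dvd_zero _
  add_mem' := dvd_add
  smul_mem' a f h := by
    rw [Set.mem_ofPred_eq, Subalgebra.smul_def, smul_eq_mul]
    exact Dvd.dvd.mul_left h _

/-- The elements of `A` without constant term. -/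
def mA (A : Subalgebra k (PowerSeries k)) : Submodule ↥A ↥A where
  carrier := {a | PowerSeries.constantCoeff (a : PowerSeries k) = 0}
  zero_mem' := by simp
  add_mem' {a b} ha hb := by simp only [Set.mem_ofPred_eq] at *; simp [ha, hb]
  smul_mem' a b hb := by simp only [Set.mem_ofPred_eq] at *; simp [hb]

/-- The multipliers of `M` into `ω`. -/
def D (ω M : Submodule ↥A (PowerSeries k)) : Submodule ↥A (PowerSeries k) where
  carrier := {u | ∀ m ∈ M, u * m ∈ ω}
  zero_mem' m _ := by rw [zero_mul]; exact ω.zero_mem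
  add_mem' {u v} hu hv m hm := by rw [add_mul]; exact ω.add_mem (hu m hm) (hv m hm)
  smul_mem' a u hu m hm := by rw [smul_mul_assoc]; exact ω.smul_mem a (hu m hm)

theorem extend_of_injDim {R : Type u} [CommRing R] {X Z M Y : Type u} [AddCommGroup X] [Module R X]
    [AddCommGroup Z] [Module R Z] [AddCommGroup M] [Module R M] [AddCommGroup Y] [Module R Y]
    (hY : HasInjectiveDimensionLT (ModuleCat.of R Y) 2) (j : M →ₗ[R] R) (hj : Function.Injective j)
    (i : X →ₗ[R] Z) (p : Z →ₗ[R] M) (hi : Function.Injective i) (hp : Function.Surjective p)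
    (hip : p.comp i = 0) (hex : ∀ z, p z = 0 → ∃ x, i x = z) (g : X →ₗ[R] Y) :
    ∃ φ : Z →ₗ[R] Y, φ.comp i = g := by
  let S₀ : ShortComplex (ModuleCat.{u} R) := ShortComplex.moduleCatMk j j.range.mkQ j.range_mkQ_comp
  have hS₀ : S₀.ShortExact := {
    exact := (ShortComplex.moduleCat_exact_iff_ker_sub_range _).2 fun x hx => by
      have hx' : j.range.mkQ x = 0 := hx
      rwa [Submodule.mkQ_apply, Submodule.Quotient.mk_eq_zero] at hx'
    mono_f := (ModuleCat.mono_iff_injective _).2 hj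
    epi_g := (ModuleCat.epi_iff_surjective _).2 j.range.mkQ_surjective }
  haveI : Projective S₀.X₂ := ModuleCat.projective_of_free (Module.Free.chooseBasis R R)
  have hM : Subsingleton (Abelian.Ext (ModuleCat.of R M) (ModuleCat.of R Y) 1) := by
    refine subsingleton_of_forall_eq 0 fun x => ?_
    have h2 : hS₀.extClass.comp x (show 1 + 1 = 2 from rfl) = 0 := by
      haveI := HasInjectiveDimensionLT.subsingleton (ModuleCat.of R Y) 2 2 le_rfl S₀.X₃
      exact Subsingleton.elim _ _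
    obtain ⟨y, rfl⟩ := Abelian.Ext.contravariant_sequence_exact₁ hS₀ _ x _ h2
    rw [Abelian.Ext.eq_zero_of_projective y, Abelian.Ext.comp_zero]
    rfl
  let S : ShortComplex (ModuleCat.{u} R) := ShortComplex.moduleCatMk i p hip
  have hS : S.ShortExact := {
    exact := (ShortComplex.moduleCat_exact_iff_ker_sub_range _).2 fun z hz => hex z hz
    mono_f := (ModuleCat.mono_iff_injective _).2 hi
    epi_g := (ModuleCat.epi_iff_surjective _).2 hp }
  obtain ⟨y, hy⟩ := Abelian.Ext.contravariant_sequence_exact₁ hS (ModuleCat.of R Y)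
    (Abelian.Ext.mk₀ (ModuleCat.ofHom g)) (show 1 + 0 = 1 from rfl) (hM.elim _ _)
  obtain ⟨φ, rfl⟩ := (Abelian.Ext.mk₀_bijective _ _).2 y
  rw [Abelian.Ext.mk₀_comp_mk₀] at hy
  exact ⟨φ.hom, congrArg ModuleCat.Hom.hom ((Abelian.Ext.mk₀_bijective _ _).1 hy)⟩

variable {c : ℕ} (hc : ∀ f : PowerSeries k, (PowerSeries.X : PowerSeries k) ^ c ∣ f → f ∈ A)

/-- `X ^ c` as an element of `A`. -/
def xc : ↥A := ⟨PowerSeries.X ^ c, hc _ dvd_rfl⟩

include hc in
theorem hom_apply {ω N : Submodule ↥A (PowerSeries k)} (h1 : (1 : PowerSeries k) ∈ N) (f : ↥N →ₗ[↥A] ↥ω)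
    (n : ↥N) : (f n : PowerSeries k) = n.1 * (f ⟨1, h1⟩).1 := by
  have hn : (PowerSeries.X : PowerSeries k) ^ c * n.1 ∈ A := hc _ (dvd_mul_right _ _)
  have e : xc hc • n = (⟨_, hn⟩ : ↥A) • (⟨1, h1⟩ : ↥N) := Subtype.ext (by
    simp [xc, Subalgebra.smul_def])
  have h := congrArg (fun z => ((f z : ↥ω) : PowerSeries k)) e
  simp only [map_smul, Submodule.coe_smul, Subalgebra.smul_def, smul_eq_mul, xc] at h
  rw [mul_assoc] at h
  exact mul_left_cancel₀ (pow_ne_zero _ PowerSeries.X_ne_zero) h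

/-- Multiplication by `X ^ c` from a submodule into `A`. -/
def toA (M : Submodule ↥A (PowerSeries k)) : ↥M →ₗ[↥A] ↥A where
  toFun m := ⟨PowerSeries.X ^ c * m.1, hc _ (dvd_mul_right _ _)⟩
  map_add' m n := Subtype.ext (by simp [mul_add])
  map_smul' a m := Subtype.ext (by simp [Subalgebra.smul_def]; ring)

theorem toA_injective (M : Submodule ↥A (PowerSeries k)) : Function.Injective (toA hc M) := fun m n h =>
  Subtype.ext (mul_left_cancel₀ (pow_ne_zero c PowerSeries.X_ne_zero) (congrArg Subtype.val h))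

include hc in
theorem exists_multiplier {ω : Submodule ↥A (PowerSeries k)} (hω1 : (1 : PowerSeries k) ∈ ω)
    (hω : HasInjectiveDimensionLT (ModuleCat.of ↥A ↥ω) 2) (hc0 : c ≠ 0)
    {N M : Submodule ↥A (PowerSeries k)} (hNM : N ≤ M) (hN1 : (1 : PowerSeries k) ∈ N)
    {x : PowerSeries k} (hx : x ∈ M) (hxN : x ∉ N)
    (hdec : ∀ m ∈ M, ∃ a : k, m - PowerSeries.C a * x ∈ N)
    (hmx : ∀ a ∈ mA A, (a : ↥A) • x ∈ N) : ∃ u ∈ D ω N, u ∉ D ω M := by
  classical
  by_contra hcon
  push Not at hcon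
  have hωc : ∀ f : PowerSeries k, (PowerSeries.X : PowerSeries k) ^ c ∣ f → f ∈ ω := fun f hf => by
    have := ω.smul_mem (⟨f, hc f hf⟩ : ↥A) hω1
    simpa [Subalgebra.smul_def] using this
  obtain ⟨g, hg⟩ : ∃ g : ↥(mA A) →ₗ[↥A] ↥ω, ¬ ∃ w : ↥ω, ∀ a : ↥(mA A), g a = a.1 • w := by
    have hex : ∃ e, ∀ f : PowerSeries k, (PowerSeries.X : PowerSeries k) ^ e ∣ f → f ∈ ω := ⟨c, hωc⟩
    have hxc : xc hc ∈ mA A := by
      show PowerSeries.constantCoeff ((PowerSeries.X : PowerSeries k) ^ c) = 0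
      simp [hc0]
    rcases h : Nat.find hex with _ | e
    · have hall : ∀ f, f ∈ ω := fun f => Nat.find_spec hex f (by rw [h, pow_zero]; exact one_dvd f)
      let g : ↥(mA A) →ₗ[↥A] ↥ω :=
        { toFun := fun a => ⟨PowerSeries.mk fun n => PowerSeries.coeff (n + 1) (a.1 : PowerSeries k), hall _⟩
          map_add' := fun a b => Subtype.ext (PowerSeries.ext fun n => by simp)
          map_smul' := fun r a => Subtype.ext (by
            have key : ∀ f : PowerSeries k, PowerSeries.constantCoeff f = 0 →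
                PowerSeries.X * (PowerSeries.mk fun n => PowerSeries.coeff (n + 1) f) = f := fun f hf =>
              PowerSeries.ext fun n => by
                rcases n with _ | n
                · simp [hf]
                · simp [PowerSeries.coeff_succ_X_mul]
            apply mul_left_cancel₀ (PowerSeries.X_ne_zero (R := k))
            simp only [RingHom.id_apply, Submodule.coe_smul, Subalgebra.smul_def, smul_eq_mul]
            rw [mul_left_comm, key _ a.2, key _]
            · simp [Subalgebra.smul_def]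
            · simp [show PowerSeries.constantCoeff (a.1 : PowerSeries k) = 0 from a.2]) }
      refine ⟨g, ?_⟩
      rintro ⟨w, hw⟩
      have h1 := congrArg (fun z : ↥ω => PowerSeries.coeff (c - 1) z.1) (hw ⟨xc hc, hxc⟩)
      simp only [g, LinearMap.coe_mk, AddHom.coe_mk, Submodule.coe_smul, Subalgebra.smul_def, smul_eq_mul, xc,
        PowerSeries.coeff_mk, PowerSeries.coeff_X_pow_mul', show c - 1 + 1 = c by omega,
        PowerSeries.coeff_X_pow_self, if_neg (show ¬ c ≤ c - 1 by omega)] at h1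
      exact one_ne_zero h1
    · obtain ⟨u, hu, huω⟩ : ∃ u, (PowerSeries.X : PowerSeries k) ^ e ∣ u ∧ u ∉ ω := by
        have := Nat.find_min hex (show e < Nat.find hex by omega)
        push Not at this
        exact this
      let g : ↥(mA A) →ₗ[↥A] ↥ω :=
        { toFun := fun a => ⟨(a.1 : PowerSeries k) * u, Nat.find_spec hex _ (by
            rw [h, pow_succ']; exact mul_dvd_mul (PowerSeries.X_dvd_iff.mpr a.2) hu)⟩
          map_add' := fun a b => Subtype.ext (by simp [add_mul])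
          map_smul' := fun r a => Subtype.ext (by simp [Subalgebra.smul_def, mul_assoc]) }
      refine ⟨g, ?_⟩
      rintro ⟨w, hw⟩
      have h1 := congrArg (Subtype.val) (hw ⟨xc hc, hxc⟩)
      simp only [g, LinearMap.coe_mk, AddHom.coe_mk, Submodule.coe_smul, Subalgebra.smul_def, smul_eq_mul, xc] at h1
      exact huω (mul_left_cancel₀ (pow_ne_zero _ PowerSeries.X_ne_zero) h1 ▸ w.2)
  let i : ↥(mA A) →ₗ[↥A] ↥N × ↥A :=
    { toFun := fun a => (⟨a.1 • x, hmx a.1 a.2⟩, -a.1)
      map_add' := fun a b => Prod.ext (Subtype.ext (add_smul a.1 b.1 x)) (neg_add a.1 b.1)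
      map_smul' := fun r a => Prod.ext (Subtype.ext (mul_smul r a.1 x)) (mul_neg r a.1).symm }
  let p : ↥N × ↥A →ₗ[↥A] ↥M :=
    LinearMap.coprod (Submodule.inclusion hNM) (LinearMap.toSpanSingleton ↥A ↥M ⟨x, hx⟩)
  have hip : p.comp i = 0 := LinearMap.ext fun a => Subtype.ext (by simp [i, p])
  have hCmem : ∀ a : k, PowerSeries.C a ∈ A := fun a => A.algebraMap_mem a
  have hinj : Function.Injective i := fun a b h => Subtype.ext (neg_injective (congrArg Prod.snd h))
  have hex : ∀ z, p z = 0 → ∃ a, i a = z := fun z hz => by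
      obtain ⟨n, b⟩ := z
      have hz' : n.1 + b • x = 0 := congrArg Subtype.val (show p (n, b) = 0 from hz)
      have hbm : b ∈ mA A := by
        by_contra hne
        have hne' : PowerSeries.constantCoeff (b : PowerSeries k) ≠ 0 := hne
        set β := PowerSeries.constantCoeff (b : PowerSeries k)
        have hb' : b - ⟨PowerSeries.C β, hCmem β⟩ ∈ mA A := by
          show PowerSeries.constantCoeff _ = 0
          simp [β]
        have h1 := N.sub_mem (show b • x ∈ N by rw [eq_neg_of_add_eq_zero_right hz']; exact N.neg_mem n.2) (hmx _ hb')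
        have h2 := N.smul_mem (⟨PowerSeries.C β⁻¹, hCmem _⟩ : ↥A) h1
        refine hxN ?_
        convert h2 using 1
        simp only [Subalgebra.smul_def, smul_eq_mul, AddSubgroupClass.coe_sub]
        rw [← sub_mul, sub_sub_cancel, ← mul_assoc, ← map_mul, inv_mul_cancel₀ hne', map_one, one_mul]
      refine ⟨⟨-b, (mA A).neg_mem hbm⟩, Prod.ext (Subtype.ext ?_) (neg_neg b)⟩
      show (-b) • x = n.1
      rw [neg_smul, eq_neg_of_add_eq_zero_left hz']
  have hsurj : Function.Surjective p := fun m => by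
      obtain ⟨a, ha⟩ := hdec m.1 m.2
      refine ⟨(⟨_, ha⟩, ⟨PowerSeries.C a, hCmem a⟩), Subtype.ext ?_⟩
      show m.1 - PowerSeries.C a * x + (⟨PowerSeries.C a, hCmem a⟩ : ↥A) • x = m.1
      simp [Subalgebra.smul_def]
  obtain ⟨φl, hφ⟩ := extend_of_injDim (R := ↥A) (X := ↥(mA A)) (Z := ↥N × ↥A) (M := ↥M) (Y := ↥ω) hω (toA hc M) (toA_injective hc M) i p hinj hsurj hip hex g
  have hg' : ∀ a, φl (i a) = g a := fun a => LinearMap.congr_fun hφ a
  let f1 : ↥N →ₗ[↥A] ↥ω := φl.comp (LinearMap.inl ↥A ↥N ↥A)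
  let u := (f1 ⟨1, hN1⟩).1
  have hu : u ∈ D ω M := hcon u fun n hn => by
    rw [mul_comm, show n = (⟨n, hn⟩ : ↥N).1 from rfl, ← hom_apply hc hN1 f1]
    exact (f1 _).2
  have hux : u * x ∈ ω := hu x hx
  refine hg ⟨⟨u * x, hux⟩ - φl (0, 1), fun a => ?_⟩
  have hsplit : i a = (LinearMap.inl ↥A ↥N ↥A ⟨a.1 • x, hmx a.1 a.2⟩) + (-a.1) • ((0 : ↥N), (1 : ↥A)) := by
    refine Prod.ext ?_ ?_ <;> simp [i]
  rw [← hg', hsplit, map_add, map_smul]
  refine Subtype.ext ?_
  have h1 := hom_apply hc hN1 f1 ⟨a.1 • x, hmx a.1 a.2⟩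
  simp only [f1, LinearMap.comp_apply, Subalgebra.smul_def, smul_eq_mul] at h1
  simp only [Submodule.coe_add, Submodule.coe_smul, AddSubgroupClass.coe_sub, h1, u, f1, LinearMap.comp_apply,
    Subalgebra.smul_def, smul_eq_mul, NegMemClass.coe_neg]
  ring

theorem exists_dvd_mul {j : ℕ} {u h : PowerSeries k} (hu : u.order = (j : ℕ)) {n : ℕ}
    (hh : (PowerSeries.X : PowerSeries k) ^ (j + n) ∣ h) :
    ∃ q, h = u * (PowerSeries.X ^ n * q) := by
  obtain ⟨h1, h2⟩ := (PowerSeries.order_eq_nat).1 hu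
  obtain ⟨w, hw⟩ : (PowerSeries.X : PowerSeries k) ^ j ∣ u := PowerSeries.X_pow_dvd_iff.2 h2
  have hwu : IsUnit w := by
    rw [PowerSeries.isUnit_iff_constantCoeff, isUnit_iff_ne_zero]
    intro h0
    apply h1
    rw [hw, PowerSeries.coeff_X_pow_mul', if_pos le_rfl, Nat.sub_self,
      PowerSeries.coeff_zero_eq_constantCoeff_apply, h0]
  obtain ⟨w', hw'⟩ := hwu.exists_right_inv
  obtain ⟨r, rfl⟩ := hh
  refine ⟨w' * r, ?_⟩
  rw [hw, pow_add, show PowerSeries.X ^ j * w * (PowerSeries.X ^ n * (w' * r)) =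
    PowerSeries.X ^ j * PowerSeries.X ^ n * (w * w' * r) by ring, hw', one_mul]

include hc in
theorem mem_of_order {L : Submodule ↥A (PowerSeries k)} {j : ℕ} {u : PowerSeries k} (hu : u ∈ L)
    (huj : u.order = (j : ℕ)) (hL : ∀ h, (PowerSeries.X : PowerSeries k) ^ (j + 1) ∣ h → h ∈ L)
    (h : PowerSeries k) (hh : (PowerSeries.X : PowerSeries k) ^ j ∣ h) : h ∈ L := by
  obtain ⟨h1, h2⟩ := (PowerSeries.order_eq_nat).1 huj
  have hmem : PowerSeries.C (PowerSeries.coeff j h / PowerSeries.coeff j u) * u ∈ L := by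
    have := L.smul_mem (⟨PowerSeries.C (PowerSeries.coeff j h / PowerSeries.coeff j u), A.algebraMap_mem _⟩ : ↥A) hu
    simpa [Subalgebra.smul_def] using this
  have hdiff : (PowerSeries.X : PowerSeries k) ^ (j + 1) ∣
      h - PowerSeries.C (PowerSeries.coeff j h / PowerSeries.coeff j u) * u := by
    rw [PowerSeries.X_pow_dvd_iff]
    intro d hd
    rw [map_sub, PowerSeries.coeff_C_mul]
    rcases (Nat.lt_succ_iff.mp hd).lt_or_eq with hlt | rfl
    · rw [PowerSeries.X_pow_dvd_iff.1 hh d hlt, h2 d hlt, mul_zero, sub_self]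
    · rw [div_mul_cancel₀ _ h1, sub_self]
  simpa using L.add_mem (hL _ hdiff) hmem

include hc in
theorem exists_multiplier_gap {ω : Submodule ↥A (PowerSeries k)} (hω1 : (1 : PowerSeries k) ∈ ω)
    (hω : HasInjectiveDimensionLT (ModuleCat.of ↥A ↥ω) 2) (hc0 : c ≠ 0)
    (M : Submodule ↥A (PowerSeries k)) (hM1 : (1 : PowerSeries k) ∈ M) (n : ℕ)
    (hn : ¬ ∃ m ∈ M, m.order = (n : ℕ)) :
    ∃ u ∈ D ω M, (∀ q, u * (PowerSeries.X ^ (n + 1) * q) ∈ ω) ∧
      ∃ q, u * (PowerSeries.X ^ n * q) ∉ ω := by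
  have hmem : ∀ (j : ℕ) (q : PowerSeries k), PowerSeries.X ^ j * q ∈ tR A j := fun j q => dvd_mul_right _ _
  have hXn : (PowerSeries.X : PowerSeries k) ^ n ∉ M ⊔ tR A (n + 1) := by
    intro h
    obtain ⟨m, hm, r, hr, hmr⟩ := Submodule.mem_sup.mp h
    refine hn ⟨m, hm, (PowerSeries.order_eq_nat).2 ⟨?_, fun d hd => ?_⟩⟩
    · have := congrArg (PowerSeries.coeff n) hmr
      rw [map_add, PowerSeries.X_pow_dvd_iff.1 hr n (by omega), add_zero, PowerSeries.coeff_X_pow_self] at this
      rw [this]; exact one_ne_zero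
    · have := congrArg (PowerSeries.coeff d) hmr
      rwa [map_add, PowerSeries.X_pow_dvd_iff.1 hr d (by omega), add_zero, PowerSeries.coeff_X_pow,
        if_neg (by omega)] at this
  have hle : tR A (n + 1) ≤ tR A n := fun f hf => dvd_trans (pow_dvd_pow _ (Nat.le_succ n)) hf
  obtain ⟨u, huN, huM⟩ := exists_multiplier hc hω1 hω hc0 (sup_le_sup_left hle M)
    (Submodule.mem_sup_left hM1) (Submodule.mem_sup_right (dvd_refl _)) hXn
    (fun m' hm' => by
      obtain ⟨m, hm, r, ⟨q, rfl⟩, rfl⟩ := Submodule.mem_sup.mp hm'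
      refine ⟨PowerSeries.constantCoeff q, ?_⟩
      have hq : PowerSeries.X ∣ q - PowerSeries.C (PowerSeries.constantCoeff q) := by
        rw [PowerSeries.X_dvd_iff]; simp
      obtain ⟨q', hq'⟩ := hq
      refine Submodule.mem_sup.mpr ⟨m, hm, PowerSeries.X ^ (n + 1) * q', hmem _ _, ?_⟩
      rw [pow_succ]
      linear_combination -(PowerSeries.X : PowerSeries k) ^ n * hq')
    (fun a ha => Submodule.mem_sup_right (by
      show (PowerSeries.X : PowerSeries k) ^ (n + 1) ∣ a • (PowerSeries.X : PowerSeries k) ^ n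
      rw [Subalgebra.smul_def, smul_eq_mul, pow_succ']
      exact mul_dvd_mul_right (PowerSeries.X_dvd_iff.mpr ha) _))
  have huD : u ∈ D ω M := fun m hm => huN m (Submodule.mem_sup_left hm)
  refine ⟨u, huD, fun q => huN _ (Submodule.mem_sup_right (hmem _ q)), ?_⟩
  by_contra hq
  push Not at hq
  refine huM fun m' hm' => ?_
  obtain ⟨m, hm, r, ⟨q, rfl⟩, rfl⟩ := Submodule.mem_sup.mp hm'
  rw [mul_add]
  exact ω.add_mem (huD m hm) (hq q)

include hc in
/-- The value set of the multipliers of `M` into the canonical ideal. -/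
theorem value_D {ω : Submodule ↥A (PowerSeries k)} (hω1 : (1 : PowerSeries k) ∈ ω)
    (hω : HasInjectiveDimensionLT (ModuleCat.of ↥A ↥ω) 2) (hc0 : c ≠ 0)
    (hc1 : ¬ ∃ f ∈ A, f.order = ((c - 1 : ℕ) : ℕ∞))
    (M : Submodule ↥A (PowerSeries k)) (hM1 : (1 : PowerSeries k) ∈ M) (n : ℕ) :
    (∃ u ∈ D ω M, u.order = (n : ℕ)) ↔ (c ≤ n ∨ ¬ ∃ m ∈ M, m.order = ((c - 1 - n : ℕ) : ℕ∞)) := by
  have hωc : ∀ f : PowerSeries k, (PowerSeries.X : PowerSeries k) ^ c ∣ f → f ∈ ω := fun f hf => by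
    have := ω.smul_mem (⟨f, hc f hf⟩ : ↥A) hω1
    simpa [Subalgebra.smul_def] using this
  have hnot : ∀ j, j < c → ¬ ∀ h : PowerSeries k, (PowerSeries.X : PowerSeries k) ^ j ∣ h → h ∈ ω := by
    intro j hj hall
    obtain ⟨u, -, -, q, hq⟩ := exists_multiplier_gap hc hω1 hω hc0 (Submodule.span ↥A {(1 : PowerSeries k)})
      (Submodule.mem_span_singleton_self 1) (c - 1) (by
        rintro ⟨m, hm, hmo⟩
        obtain ⟨a, rfl⟩ := Submodule.mem_span_singleton.mp hm
        exact hc1 ⟨_, a.2, by simpa [Subalgebra.smul_def] using hmo⟩)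
    exact hq (hall _ (Dvd.dvd.mul_left (Dvd.dvd.mul_right (pow_dvd_pow _ (by omega)) _) _))
  constructor
  · rintro ⟨u, hu, hun⟩
    by_contra hcon
    push Not at hcon
    obtain ⟨hn, m, hm, hmo⟩ := hcon
    refine hnot (c - 1) (by omega) (mem_of_order hc (hu m hm) ?_ fun h hh => hωc h ?_)
    · rw [PowerSeries.order_mul, hun, hmo, ← Nat.cast_add]
      exact congrArg _ (by omega)
    · rwa [show c - 1 + 1 = c by omega] at hh
  · intro h
    rcases lt_or_ge n c with hn | hn
    swap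
    · exact ⟨PowerSeries.X ^ n, fun m _ => hωc _ (Dvd.dvd.mul_right (pow_dvd_pow _ hn) _),
        PowerSeries.order_X_pow n⟩
    obtain ⟨u, hu, hup, q, hq⟩ := exists_multiplier_gap hc hω1 hω hc0 M hM1 (c - 1 - n)
      (h.resolve_left (by omega))
    refine ⟨u, hu, ?_⟩
    have hne : u.order ≠ ⊤ := fun e => hq (by rw [PowerSeries.order_eq_top.1 e, zero_mul]; exact ω.zero_mem)
    obtain ⟨j, hj⟩ := WithTop.ne_top_iff_exists.1 hne
    rw [← hj]
    refine congrArg _ (le_antisymm ?_ ?_)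
    · by_contra hlt
      refine hq (hωc _ ?_)
      have h1 : (PowerSeries.X : PowerSeries k) ^ j ∣ u :=
        (ValueApprox.le_order_iff_dvd j u).1 (le_of_eq hj)
      exact dvd_trans (pow_dvd_pow _ (show c ≤ j + (c - 1 - n) by omega))
        (by rw [pow_add]; exact mul_dvd_mul h1 (dvd_mul_right _ _))
    · by_contra hlt
      refine hnot (j + (c - 1 - n + 1)) (by omega) fun h hh => ?_
      obtain ⟨r, rfl⟩ := exists_dvd_mul hj.symm hh
      exact hup r

end Groth.Agent.Lib.CanVal62
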